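import Mathlib

set_option autoImplicit false

namespace Groth.Agent.Misc12.Wr

open Polynomial

variable {k : Type*} [Field k] {m : ℕ}

noncomputable def E (r : Fin m → k) (a : Fin m → ℕ) : k[X] := ∏ j, (X - C (r j)) ^ a j

noncomputable def Rad (r : Fin m → k) : k[X] := ∏ j, (X - C (r j))

noncomputable def S (r : Fin m → k) (a : Fin m → ℕ) : k[X] :=
  ∑ j, C (a j : k) * ∏ l ∈ Finset.univ.erase j, (X - C (r l))

noncomputable def Phi (r : Fin m → k) (a : Fin m → ℕ) : k[X] →ₗ[k] k[X] :=
  (LinearMap.mulLeft k (Rad r)).comp derivative - LinearMap.mulLeft k (S r a)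

variable {r : Fin m → k} {a : Fin m → ℕ}

theorem Phi_apply (G : k[X]) : Phi r a G = Rad r * derivative G - S r a * G := rfl

theorem prod_succ_pow (r : Fin m → k) (a : Fin m → ℕ) (s : Finset (Fin m)) :
    ∏ j ∈ s, (X - C (r j)) ^ (a j + 1)
      = (∏ j ∈ s, (X - C (r j))) * ∏ j ∈ s, (X - C (r j)) ^ a j := by
  rw [← Finset.prod_mul_distrib]
  exact Finset.prod_congr rfl fun j _ => by rw [pow_succ, mul_comm]

theorem Rad_mul_derivative_prod (r : Fin m → k) (a : Fin m → ℕ) (s : Finset (Fin m)) :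
    Rad r * derivative (∏ j ∈ s, (X - C (r j)) ^ a j)
      = (∑ j ∈ s, C (a j : k) * ∏ l ∈ Finset.univ.erase j, (X - C (r l))) *
          ∏ j ∈ s, (X - C (r j)) ^ a j := by
  rw [derivative_prod_finset, Finset.mul_sum, Finset.sum_mul]
  refine Finset.sum_congr rfl fun i hi => ?_
  rw [derivative_X_sub_C_pow, ← Finset.mul_prod_erase s _ hi]
  have hR : Rad r = (X - C (r i)) * ∏ l ∈ Finset.univ.erase i, (X - C (r l)) :=
    (Finset.mul_prod_erase _ _ (Finset.mem_univ i)).symm
  rw [hR]
  rcases Nat.eq_zero_or_pos (a i) with h | h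
  · simp [h]
  · have hp : (X - C (r i)) ^ a i = (X - C (r i)) ^ (a i - 1) * (X - C (r i)) := by
      rw [← pow_succ]; congr 1; omega
    rw [hp]; ring

theorem Rad_mul_derivative_E (r : Fin m → k) (a : Fin m → ℕ) :
    Rad r * derivative (E r a) = S r a * E r a :=
  Rad_mul_derivative_prod r a Finset.univ

theorem Phi_E : Phi r a (E r a) = 0 := by
  rw [Phi_apply, Rad_mul_derivative_E, sub_self]

theorem Phi_smul_E (c : k) : Phi r a (c • E r a) = 0 := by rw [map_smul, Phi_E, smul_zero]

theorem Phi_E_mul (P : k[X]) : Phi r a (E r a * P) = Rad r * E r a * derivative P := by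
  rw [Phi_apply, derivative_mul]
  linear_combination P * Rad_mul_derivative_E r a

theorem E_eq (i : Fin m) :
    E r a = (X - C (r i)) ^ a i * ∏ j ∈ Finset.univ.erase i, (X - C (r j)) ^ a j :=
  (Finset.mul_prod_erase _ _ (Finset.mem_univ i)).symm

theorem Rad_eq (i : Fin m) :
    Rad r = (X - C (r i)) * ∏ j ∈ Finset.univ.erase i, (X - C (r j)) :=
  (Finset.mul_prod_erase _ _ (Finset.mem_univ i)).symm

theorem S_eq (i : Fin m) :
    S r a = C (a i : k) * (∏ l ∈ Finset.univ.erase i, (X - C (r l))) +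
      ∑ j ∈ Finset.univ.erase i, C (a j : k) * ∏ l ∈ Finset.univ.erase j, (X - C (r l)) :=
  (Finset.add_sum_erase _ _ (Finset.mem_univ i)).symm

theorem Phi_Ei_mul (i : Fin m) (T : k[X]) :
    Phi r a ((∏ j ∈ Finset.univ.erase i, (X - C (r j)) ^ a j) * T)
      = (∏ j ∈ Finset.univ.erase i, (X - C (r j)) ^ (a j + 1)) *
          ((X - C (r i)) * derivative T - C (a i : k) * T) := by
  rw [Phi_apply, derivative_mul, prod_succ_pow]
  linear_combination T * Rad_mul_derivative_prod r a (Finset.univ.erase i)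
    + ((∏ j ∈ Finset.univ.erase i, (X - C (r j)) ^ a j) * derivative T) * Rad_eq (r := r) i
    - ((∏ j ∈ Finset.univ.erase i, (X - C (r j)) ^ a j) * T) * S_eq (r := r) (a := a) i

/-! ### Degrees -/

theorem Rad_monic : (Rad r).Monic := monic_prod_of_monic _ _ fun j _ => monic_X_sub_C _

theorem Rad_natDegree : (Rad r).natDegree = m := by
  rw [Rad, natDegree_prod_of_monic _ _ fun j _ => monic_X_sub_C _]
  simp

theorem E_monic : (E r a).Monic := monic_prod_of_monic _ _ fun j _ => (monic_X_sub_C _).pow _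

theorem E_natDegree : (E r a).natDegree = ∑ j, a j := by
  rw [E, natDegree_prod_of_monic _ _ fun j _ => (monic_X_sub_C _).pow _]
  simp

theorem E_coeff_top : (E r a).coeff (∑ j, a j) = 1 := by
  rw [← E_natDegree (r := r) (a := a)]; exact E_monic.coeff_natDegree

theorem XS_natDegree_coeff :
    (X * S r a).natDegree ≤ m ∧ (X * S r a).coeff m = ((∑ j, a j : ℕ) : k) := by
  have key : ∀ j : Fin m, (X * ∏ l ∈ Finset.univ.erase j, (X - C (r l))).natDegree = m ∧
      (X * ∏ l ∈ Finset.univ.erase j, (X - C (r l))).Monic := by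
    intro j
    have hmon : (∏ l ∈ Finset.univ.erase j, (X - C (r l))).Monic :=
      monic_prod_of_monic _ _ fun l _ => monic_X_sub_C _
    refine ⟨?_, monic_X.mul hmon⟩
    rw [monic_X.natDegree_mul hmon, natDegree_prod_of_monic _ _ fun l _ => monic_X_sub_C _]
    simp only [natDegree_X_sub_C, Finset.sum_const, smul_eq_mul, mul_one, natDegree_X]
    rw [Finset.card_erase_of_mem (Finset.mem_univ j), Finset.card_univ, Fintype.card_fin]
    have := j.isLt
    omega
  have hexp : X * S r a =
      ∑ j, C (a j : k) * (X * ∏ l ∈ Finset.univ.erase j, (X - C (r l))) := by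
    rw [S, Finset.mul_sum]
    exact Finset.sum_congr rfl fun j _ => by ring
  rw [hexp]
  refine ⟨natDegree_sum_le_of_forall_le _ _ fun j _ =>
    le_trans (natDegree_C_mul_le _ _) (key j).1.le, ?_⟩
  rw [finsetSum_coeff, Nat.cast_sum]
  refine Finset.sum_congr rfl fun j _ => ?_
  have h1 := (key j).2.coeff_natDegree
  rw [(key j).1] at h1
  rw [coeff_C_mul, h1, mul_one]

theorem XPhi_natDegree_coeff {G : k[X]} {g : ℕ} (hG : G.natDegree ≤ g) :
    (X * Phi r a G).natDegree ≤ g + m ∧
      (X * Phi r a G).coeff (g + m) = ((g : k) - ((∑ j, a j : ℕ) : k)) * G.coeff g := by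
  have hXd : (X * derivative G).natDegree ≤ g ∧
      (X * derivative G).coeff g = (g : k) * G.coeff g := by
    refine ⟨?_, ?_⟩
    · rcases Nat.eq_zero_or_pos G.natDegree with h0 | h0
      · rw [eq_C_of_natDegree_eq_zero h0]; simp
      · refine le_trans natDegree_mul_le ?_
        have := natDegree_derivative_lt (p := G) (by omega)
        rw [natDegree_X]; omega
    · cases g with
      | zero => simp
      | succ g => rw [coeff_X_mul, coeff_derivative]; push_cast; ring
  have hexp : X * Phi r a G = Rad r * (X * derivative G) - (X * S r a) * G := by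
    rw [Phi_apply]; ring
  obtain ⟨hS1, hS2⟩ := XS_natDegree_coeff (r := r) (a := a)
  have h1 : (Rad r * (X * derivative G)).natDegree ≤ g + m :=
    le_trans natDegree_mul_le (by have := Rad_natDegree (r := r); omega)
  have h2 : (X * S r a * G).natDegree ≤ g + m := le_trans natDegree_mul_le (by omega)
  rw [hexp]
  refine ⟨le_trans (natDegree_sub_le _ _) (max_le h1 h2), ?_⟩
  have hR : (Rad r).coeff m = 1 := by
    have h := (Rad_monic (r := r)).coeff_natDegree
    rwa [Rad_natDegree] at h
  rw [coeff_sub, add_comm g m,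
    coeff_mul_add_eq_of_natDegree_le Rad_natDegree.le hXd.1,
    coeff_mul_add_eq_of_natDegree_le hS1 hG, hR, hS2, hXd.2]
  ring

variable [CharZero k]

/-- If the coefficient at `∑ a` vanishes, then `Φ G` sees the degree of `G`. -/
theorem natDegree_le_of_Phi {G : k[X]} (hA : G.coeff (∑ j, a j) = 0) (hG : G ≠ 0) {L : ℕ}
    (h : (Phi r a G).degree < (L : WithBot ℕ)) : G.natDegree + m ≤ L := by
  have hne : G.natDegree ≠ ∑ j, a j := by
    intro he
    apply leadingCoeff_ne_zero.mpr hG
    rw [leadingCoeff, he]; exact hA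
  have hcoef := (XPhi_natDegree_coeff (r := r) (a := a) (le_refl G.natDegree)).2
  have hne' : (X * Phi r a G).coeff (G.natDegree + m) ≠ 0 := by
    rw [hcoef]
    exact mul_ne_zero (sub_ne_zero.mpr (Nat.cast_injective.ne hne)) (leadingCoeff_ne_zero.mpr hG)
  by_contra hcon
  obtain ⟨t, ht⟩ : ∃ t, G.natDegree + m = t + 1 := ⟨G.natDegree + m - 1, by omega⟩
  rw [ht, coeff_X_mul] at hne'
  exact hne' (coeff_eq_zero_of_degree_lt
    (lt_of_lt_of_le h (by exact_mod_cast (show L ≤ t by omega))))

/-- `Φ` raises degrees by at most `m - 1`. -/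
theorem degree_Phi_lt {G : k[X]} {M : ℕ} (hG : G.natDegree ≤ M) :
    (Phi r a G).degree < ((M + m : ℕ) : WithBot ℕ) := by
  by_cases h : Phi r a G = 0
  · rw [h, degree_zero]; exact WithBot.bot_lt_coe _
  have := (XPhi_natDegree_coeff (r := r) (a := a) hG).1
  rw [natDegree_X_mul h] at this
  rw [degree_eq_natDegree h]
  exact_mod_cast (show (Phi r a G).natDegree < M + m by omega)

theorem Phi_eq_zero_iff (G : k[X]) :
    Phi r a G = 0 ↔ G = G.coeff (∑ j, a j) • E r a := by
  refine ⟨fun h => ?_, fun h => by rw [h, Phi_smul_E]⟩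
  have hA : (G - G.coeff (∑ j, a j) • E r a).coeff (∑ j, a j) = 0 := by
    rw [coeff_sub, coeff_smul, E_coeff_top, smul_eq_mul, mul_one, sub_self]
  by_contra hne
  have hne0 : G - G.coeff (∑ j, a j) • E r a ≠ 0 := sub_ne_zero.mpr hne
  have hP : Phi r a (G - G.coeff (∑ j, a j) • E r a) = 0 := by
    rw [map_sub, Phi_smul_E, h, sub_zero]
  set G₀ := G - G.coeff (∑ j, a j) • E r a
  have hcoef := (XPhi_natDegree_coeff (r := r) (a := a) (le_refl G₀.natDegree)).2
  rw [hP, mul_zero, coeff_zero] at hcoef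
  rcases mul_eq_zero.mp hcoef.symm with h1 | h1
  · apply leadingCoeff_ne_zero.mpr hne0
    rw [leadingCoeff, Nat.cast_injective (sub_eq_zero.mp h1)]; exact hA
  · exact leadingCoeff_ne_zero.mpr hne0 h1

end Groth.Agent.Misc12.Wr
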