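import Mathlib
import Groth.Agent.Misc12.Wr.Basic

set_option autoImplicit false

namespace Groth.Agent.Misc12.Wr

open Polynomial

variable {k : Type*} [Field k] {m : ℕ} {r : Fin m → k} {a : Fin m → ℕ}

/-- Polynomials of degree at most `N` divisible by `(X - q) ^ n`. -/
noncomputable def Mult (N : ℕ) (q : k) (n : ℕ) : Submodule k k[X] :=
  (degreeLT k (N + 1 - n)).map (LinearMap.mulLeft k ((X - C q) ^ n))

theorem degree_C_mul_le' (c : k) (p : k[X]) : (C c * p).degree ≤ p.degree := by
  rw [← smul_eq_C_mul]; exact degree_smul_le c p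

theorem mem_Mult {N : ℕ} {q : k} {n : ℕ} {G : k[X]} :
    G ∈ Mult N q n ↔ G ∈ degreeLT k (N + 1) ∧ (X - C q) ^ n ∣ G := by
  constructor
  · rintro ⟨T, hT, rfl⟩
    refine ⟨?_, ⟨T, rfl⟩⟩
    rw [mem_degreeLT, LinearMap.mulLeft_apply]
    by_cases hT0 : T = 0
    · simp [hT0, WithBot.bot_lt_coe]
    rw [SetLike.mem_coe, mem_degreeLT, degree_eq_natDegree hT0] at hT
    have hT' : T.natDegree < N + 1 - n := by exact_mod_cast hT
    rw [degree_eq_natDegree (mul_ne_zero (pow_ne_zero _ (X_sub_C_ne_zero q)) hT0),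
      natDegree_mul (pow_ne_zero _ (X_sub_C_ne_zero q)) hT0, natDegree_pow, natDegree_X_sub_C]
    exact_mod_cast (show n * 1 + T.natDegree < N + 1 by omega)
  · rintro ⟨hG, T, rfl⟩
    refine ⟨T, ?_, rfl⟩
    rw [SetLike.mem_coe, mem_degreeLT]
    by_cases hT0 : T = 0
    · simp [hT0, WithBot.bot_lt_coe]
    rw [mem_degreeLT, degree_eq_natDegree (mul_ne_zero (pow_ne_zero _ (X_sub_C_ne_zero q)) hT0),
      natDegree_mul (pow_ne_zero _ (X_sub_C_ne_zero q)) hT0, natDegree_pow, natDegree_X_sub_C] at hG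
    have hG' : n * 1 + T.natDegree < N + 1 := by exact_mod_cast hG
    rw [degree_eq_natDegree hT0]
    exact_mod_cast (show T.natDegree < N + 1 - n by omega)

theorem Mult_le {N : ℕ} {q : k} {n : ℕ} : Mult N q n ≤ degreeLT k (N + 1) :=
  fun _ h => (mem_Mult.mp h).1

theorem finrank_degreeLT' (n : ℕ) : Module.finrank k ↥(degreeLT k n) = n := by
  rw [(degreeLTEquiv k n).finrank_eq, Module.finrank_fin_fun]

theorem finrank_Mult (N : ℕ) (q : k) (n : ℕ) : Module.finrank k ↥(Mult N q n) = N + 1 - n := by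
  have hinj : Function.Injective (LinearMap.mulLeft k ((X - C q) ^ n)) :=
    mul_right_injective₀ (pow_ne_zero _ (X_sub_C_ne_zero q))
  rw [Mult, ← (Submodule.equivMapOfInjective _ hinj _).finrank_eq, finrank_degreeLT']

variable [CharZero k]

theorem ker_Phi : LinearMap.ker (Phi r a) = k ∙ E r a := by
  refine le_antisymm (fun G hG => Submodule.mem_span_singleton.mpr ⟨_, ((Phi_eq_zero_iff G).mp hG).symm⟩) ?_
  rw [Submodule.span_singleton_le_iff_mem, LinearMap.mem_ker, Phi_E]

theorem finrank_map_Phi_add (L : Submodule k k[X]) [FiniteDimensional k L] :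
    Module.finrank k ↥(L.map (Phi r a)) + Module.finrank k ↥(L ⊓ (k ∙ E r a))
      = Module.finrank k ↥L := by
  have h := LinearMap.finrank_range_add_finrank_ker ((Phi r a).domRestrict L)
  rw [LinearMap.range_domRestrict, LinearMap.ker_domRestrict, ker_Phi] at h
  rw [← h]
  congr 1
  rw [← Submodule.finrank_map_subtype_eq, Submodule.map_comap_subtype]

instance finite_degreeLT (n : ℕ) : FiniteDimensional k ↥(degreeLT k n) :=
  Module.Finite.equiv (degreeLTEquiv k n).symm

theorem finrank_map_Phi_mem {L : Submodule k k[X]} [FiniteDimensional k L] (hE : E r a ∈ L) :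
    Module.finrank k ↥(L.map (Phi r a)) + 1 = Module.finrank k ↥L := by
  rw [← finrank_map_Phi_add (r := r) (a := a) L, inf_eq_right.mpr ((Submodule.span_singleton_le_iff_mem _ _).mpr hE),
    finrank_span_singleton E_monic.ne_zero]

theorem finrank_map_Phi_not_mem {L : Submodule k k[X]} [FiniteDimensional k L] (hE : E r a ∉ L) :
    Module.finrank k ↥(L.map (Phi r a)) = Module.finrank k ↥L := by
  have h0 : L ⊓ (k ∙ E r a) = ⊥ := by
    rw [Submodule.eq_bot_iff]
    rintro x ⟨hx, hx'⟩
    obtain ⟨c, rfl⟩ := Submodule.mem_span_singleton.mp hx'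
    by_contra hne
    have hc : c ≠ 0 := fun h => hne (by rw [h, zero_smul])
    exact hE (by simpa [smul_smul, hc] using L.smul_mem c⁻¹ hx)
  rw [← finrank_map_Phi_add (r := r) (a := a) L, h0, finrank_bot, add_zero]

/-- The space `V` is the image of polynomials of degree at most `N`. -/
theorem V_eq (hr : Function.Injective r) (b N : ℕ) (hN : N = (∑ j, a j) + b)
    (V : Submodule k k[X])
    (hV : V = (degreeLT k b).map (LinearMap.mulLeft k (∏ j, (X - C (r j)) ^ (a j + 1))) ⊔
      ⨆ i, (degreeLT k (a i)).map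
        (LinearMap.mulLeft k (∏ j ∈ Finset.univ.erase i, (X - C (r j)) ^ (a j + 1)))) :
    V = (degreeLT k (N + 1)).map (Phi r a) := by
  have hD : (∏ j, (X - C (r j)) ^ (a j + 1)) = Rad r * E r a := prod_succ_pow r a Finset.univ
  classical
  subst hV
  apply le_antisymm
  · refine sup_le ?_ (iSup_le fun i => ?_)
    · rw [degreeLT_eq_span_X_pow, Submodule.map_span, Submodule.span_le]
      rintro _ ⟨p, hp, rfl⟩
      obtain ⟨j, hj, rfl⟩ := Finset.mem_image.mp (Finset.mem_coe.mp hp)
      rw [Finset.mem_range] at hj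
      refine ⟨E r a * (C ((j + 1 : k)⁻¹) * X ^ (j + 1)), ?_, ?_⟩
      · rw [SetLike.mem_coe, mem_degreeLT]
        refine lt_of_le_of_lt (degree_le_natDegree) ?_
        refine Nat.cast_lt.mpr ?_
        refine lt_of_le_of_lt natDegree_mul_le ?_
        rw [E_natDegree]
        refine lt_of_le_of_lt (Nat.add_le_add_left
          (le_trans (natDegree_C_mul_le _ _) (natDegree_X_pow_le _)) _) ?_
        omega
      · rw [Phi_E_mul, LinearMap.mulLeft_apply, hD, derivative_C_mul, derivative_X_pow,
          ← mul_assoc (C _) (C _), ← C_mul]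
        congr 1
        have hne : ((j + 1 : ℕ) : k) ≠ 0 := Nat.cast_ne_zero.mpr (by omega)
        push_cast at hne ⊢
        rw [inv_mul_cancel₀ hne, map_one, one_mul]
    · rintro _ ⟨Q, hQ, rfl⟩
      -- reduce to powers of `X - r i`
      have hQ' : Q ∈ Submodule.span k (Set.range fun j : Fin (a i) => (X - C (r i)) ^ (j : ℕ)) := by
        have h1 : taylor (r i) Q ∈ degreeLT k (a i) := by
          rw [mem_degreeLT, degree_taylor]; exact mem_degreeLT.mp hQ
        rw [degreeLT_eq_span_X_pow] at h1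
        have h2 := Submodule.mem_map_of_mem (f := (taylor (-(r i)))) h1
        rw [Submodule.map_span] at h2
        have h3 : taylor (-(r i)) (taylor (r i) Q) = Q := by
          rw [taylor_taylor]; simp
        rw [h3] at h2
        refine Submodule.span_le.mpr ?_ h2
        rintro _ ⟨p, hp, rfl⟩
        obtain ⟨j, hj, rfl⟩ := Finset.mem_image.mp (Finset.mem_coe.mp hp)
        rw [Finset.mem_range] at hj
        refine Submodule.subset_span ⟨⟨j, hj⟩, ?_⟩
        simp [taylor_X_pow, sub_eq_add_neg]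
      refine (Submodule.span_le.mpr ?_ :
        Submodule.span k _ ≤ ((degreeLT k (N + 1)).map (Phi r a)).comap (LinearMap.mulLeft k _)) hQ'
      rintro _ ⟨⟨j', hj'⟩, rfl⟩
      refine ⟨(∏ l ∈ Finset.univ.erase i, (X - C (r l)) ^ a l) *
        (C (((j' : k) - (a i : k))⁻¹) * (X - C (r i)) ^ j'), ?_, ?_⟩
      · rw [SetLike.mem_coe, mem_degreeLT]
        refine lt_of_le_of_lt (degree_le_natDegree) (Nat.cast_lt.mpr ?_)
        refine lt_of_le_of_lt natDegree_mul_le ?_
        have e1 : (∏ l ∈ Finset.univ.erase i, (X - C (r l)) ^ a l).natDegree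
            = ∑ l ∈ Finset.univ.erase i, a l := by
          rw [natDegree_prod_of_monic _ _ fun j _ => (monic_X_sub_C _).pow _]; simp
        have e2 := Finset.add_sum_erase Finset.univ a (Finset.mem_univ i)
        have e3 : (C (((j' : k) - (a i : k))⁻¹) * (X - C (r i)) ^ j').natDegree ≤ j' :=
          le_trans (natDegree_C_mul_le _ _) (by simp)
        omega
      · rw [Phi_Ei_mul, LinearMap.mulLeft_apply]
        congr 1
        rw [derivative_C_mul, derivative_X_sub_C_pow]
        have hne : (j' : k) - (a i : k) ≠ 0 :=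
          sub_ne_zero.mpr (Nat.cast_injective.ne (ne_of_lt hj'))
        have hC : C (((j' : k) - (a i : k))⁻¹) * (C (j' : k) - C (a i : k)) = 1 := by
          rw [← C_sub, ← C_mul, inv_mul_cancel₀ hne, C_1]
        show _ = (X - C (r i)) ^ j'
        rcases Nat.eq_zero_or_pos j' with h0 | h0
        · rw [h0] at hC ⊢
          simp only [Nat.cast_zero, map_zero, zero_mul, mul_zero, pow_zero, mul_one] at hC ⊢
          linear_combination hC
        · have hp : (X - C (r i)) ^ j' = (X - C (r i)) ^ (j' - 1) * (X - C (r i)) := by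
            rw [← pow_succ]; congr 1; omega
          rw [hp]
          linear_combination ((X - C (r i)) ^ (j' - 1) * (X - C (r i))) * hC
  · rintro _ ⟨G, hG, rfl⟩
    rw [SetLike.mem_coe, mem_degreeLT] at hG
    obtain ⟨Q, s, hs, hdec⟩ := eq_quo_mul_prod_pow_add_sum_rem_mul_prod_pow (s := Finset.univ) G
      (g := fun j => X - C (r j)) (fun j _ => monic_X_sub_C _)
      (fun i _ j _ hij => isCoprime_X_sub_C_of_isUnit_sub
        (IsUnit.mk0 _ (sub_ne_zero.mpr (hr.ne hij)))) a
    have hrest : ∀ i, (∑ j : Fin (a i), s i j * (X - C (r i)) ^ (j : ℕ)) ∈ degreeLT k (a i) := by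
      intro i
      refine Submodule.sum_mem _ fun j _ => ?_
      have h1 := hs i (Finset.mem_univ _) j
      rw [degree_X_sub_C] at h1
      obtain ⟨c, hc⟩ : ∃ c, s i j = C c := ⟨_, eq_C_of_degree_le_zero (by
        exact Nat.WithBot.lt_one_iff_le_zero.mp h1)⟩
      rw [mem_degreeLT, hc]
      refine lt_of_le_of_lt (degree_C_mul_le' _ _) ?_
      rw [degree_pow, degree_X_sub_C]
      simp
    set W : Fin m → k[X] := fun i => ∑ j : Fin (a i), s i j * (X - C (r i)) ^ (j : ℕ) with hW
    have hdec' : G = Q * E r a + ∑ i, W i * ∏ l ∈ Finset.univ.erase i, (X - C (r l)) ^ a l := by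
      rw [hdec]; congr 1
      refine Finset.sum_congr rfl fun i _ => ?_
      rw [hW, Finset.sum_mul]
    -- degree of the quotient
    have hQ : Q.natDegree ≤ b := by
      by_cases hQ0 : Q = 0
      · simp [hQ0]
      have hrd : (∑ i, W i * ∏ l ∈ Finset.univ.erase i, (X - C (r l)) ^ a l).degree
          < ((N + 1 : ℕ) : WithBot ℕ) := by
        rw [← mem_degreeLT]
        refine Submodule.sum_mem _ fun i _ => ?_
        rw [mem_degreeLT]
        by_cases hW0 : W i = 0
        · simp [hW0, WithBot.bot_lt_coe]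
        refine lt_of_le_of_lt degree_le_natDegree (Nat.cast_lt.mpr ?_)
        refine lt_of_le_of_lt natDegree_mul_le ?_
        have h2 : (W i).natDegree < a i := by
          have := mem_degreeLT.mp (hrest i)
          rw [degree_eq_natDegree hW0] at this
          exact_mod_cast this
        have e1 : (∏ l ∈ Finset.univ.erase i, (X - C (r l)) ^ a l).natDegree
            = ∑ l ∈ Finset.univ.erase i, a l := by
          rw [natDegree_prod_of_monic _ _ fun j _ => (monic_X_sub_C _).pow _]; simp
        have e2 := Finset.add_sum_erase Finset.univ a (Finset.mem_univ i)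
        omega
      have h3 : (Q * E r a).degree < ((N + 1 : ℕ) : WithBot ℕ) := by
        have : Q * E r a = G - ∑ i, W i * ∏ l ∈ Finset.univ.erase i, (X - C (r l)) ^ a l := by
          rw [hdec']; ring
        rw [this]
        exact lt_of_le_of_lt (degree_sub_le _ _) (max_lt hG hrd)
      rw [degree_eq_natDegree (mul_ne_zero hQ0 E_monic.ne_zero),
        natDegree_mul hQ0 E_monic.ne_zero, E_natDegree] at h3
      have : Q.natDegree + ∑ j, a j < N + 1 := by exact_mod_cast h3
      omega
    rw [hdec', map_add, map_sum]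
    refine Submodule.add_mem _ (Submodule.mem_sup_left ⟨derivative Q, ?_, ?_⟩)
      (Submodule.sum_mem _ fun i _ => Submodule.mem_sup_right (Submodule.mem_iSup_of_mem i
        ⟨(X - C (r i)) * derivative (W i) - C (a i : k) * W i, ?_, ?_⟩))
    · rw [SetLike.mem_coe, mem_degreeLT]
      rcases Nat.eq_zero_or_pos Q.natDegree with h0 | h0
      · rw [eq_C_of_natDegree_eq_zero h0]; simp [WithBot.bot_lt_coe]
      · refine lt_of_le_of_lt degree_le_natDegree (Nat.cast_lt.mpr ?_)
        have := natDegree_derivative_lt (p := Q) (by omega)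
        omega
    · rw [LinearMap.mulLeft_apply, hD, mul_comm Q, Phi_E_mul]
    · rw [SetLike.mem_coe, mem_degreeLT]
      by_cases hW0 : W i = 0
      · simp [hW0, WithBot.bot_lt_coe]
      refine lt_of_le_of_lt (degree_sub_le _ _) (max_lt ?_ ?_)
      · refine lt_of_le_of_lt ?_ (mem_degreeLT.mp (hrest i))
        rw [degree_mul, degree_X_sub_C]
        rcases Nat.eq_zero_or_pos (W i).natDegree with h0 | h0
        · rw [eq_C_of_natDegree_eq_zero h0]; simp
        · rw [degree_eq_natDegree hW0]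
          refine le_trans (add_le_add le_rfl degree_le_natDegree) ?_
          have := natDegree_derivative_lt (p := W i) (by omega)
          exact_mod_cast (show 1 + (derivative (W i)).natDegree ≤ (W i).natDegree by omega)
      · exact lt_of_le_of_lt (degree_C_mul_le' _ _) (mem_degreeLT.mp (hrest i))
    · rw [LinearMap.mulLeft_apply, mul_comm (W i), Phi_Ei_mul]

/-! ### Vanishing filtrations -/

omit [CharZero k] in
theorem mem_vanish {q : k} {n : ℕ} {h : k[X]} :
    h ∈ (Ideal.span {(X - C q) ^ n}).restrictScalars k ↔ (X - C q) ^ n ∣ h :=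
  Ideal.mem_span_singleton

omit [CharZero k] in
theorem coeff_taylor_pow_mul (q : k) (g : ℕ) (T : k[X]) :
    (taylor q ((X - C q) ^ g * T)).coeff g = T.eval q := by
  have hX : taylor q (X - C q) = X := by rw [map_sub, taylor_X, taylor_C]; ring
  rw [taylor_mul, taylor_pow, hX, coeff_X_pow_mul', if_pos le_rfl, Nat.sub_self, taylor_coeff_zero]

omit [CharZero k] in
theorem Phi_pow_mul_root (i : Fin m) (n : ℕ) (T : k[X]) :
    Phi r a ((X - C (r i)) ^ n * T) = (X - C (r i)) ^ n *
      (Rad r * derivative T +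
        (C (n : k) * (∏ j ∈ Finset.univ.erase i, (X - C (r j))) - S r a) * T) := by
  rw [Phi_apply, derivative_mul, derivative_X_sub_C_pow]
  rcases Nat.eq_zero_or_pos n with h0 | h0
  · subst h0; simp; ring
  · have hp : (X - C (r i)) ^ n = (X - C (r i)) ^ (n - 1) * (X - C (r i)) := by
      rw [← pow_succ]; congr 1; omega
    rw [hp]
    linear_combination (C (n : k) * (X - C (r i)) ^ (n - 1) * T) * Rad_eq (r := r) i

omit [CharZero k] in
theorem Phi_pow_succ_mul (q : k) (n : ℕ) (T : k[X]) :
    Phi r a ((X - C q) ^ (n + 1) * T) = (X - C q) ^ n *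
      (C ((n + 1 : ℕ) : k) * Rad r * T + (X - C q) * (Rad r * derivative T - S r a * T)) := by
  rw [Phi_apply, derivative_mul, derivative_X_sub_C_pow, Nat.add_sub_cancel, pow_succ]
  ring

omit [CharZero k] in
theorem eval_S_root (i : Fin m) :
    (S r a).eval (r i) = (a i : k) * (∏ j ∈ Finset.univ.erase i, (X - C (r j))).eval (r i) := by
  rw [S_eq i, eval_add, eval_mul, eval_C, add_eq_left, eval_finsetSum]
  refine Finset.sum_eq_zero fun j hj => ?_
  rw [eval_mul, eval_prod]
  refine mul_eq_zero_of_right _ (Finset.prod_eq_zero (i := i) ?_ (by simp))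
  exact Finset.mem_erase.mpr ⟨(Finset.ne_of_mem_erase hj).symm, Finset.mem_univ _⟩

omit [CharZero k] in
theorem eval_erase_ne_zero (hr : Function.Injective r) (i : Fin m) :
    (∏ j ∈ Finset.univ.erase i, (X - C (r j))).eval (r i) ≠ 0 := by
  rw [eval_prod, Finset.prod_ne_zero_iff]
  intro j hj
  simpa [sub_ne_zero] using hr.ne (Finset.ne_of_mem_erase hj).symm

omit [CharZero k] in
theorem Rad_eval_ne_zero {q : k} (hq : ∀ j, q ≠ r j) : (Rad r).eval q ≠ 0 := by
  rw [Rad, eval_prod, Finset.prod_ne_zero_iff]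
  intro j _
  simpa [sub_ne_zero] using hq j

omit [CharZero k] in
theorem E_eval_ne_zero {q : k} (hq : ∀ j, q ≠ r j) : (E r a).eval q ≠ 0 := by
  rw [E, eval_prod, Finset.prod_ne_zero_iff]
  intro j _
  simpa [sub_ne_zero] using fun h => pow_ne_zero (a j) (sub_ne_zero.mpr (hq j)) h

omit [CharZero k] in
theorem E_mem_degreeLT {b N : ℕ} (hN : N = (∑ j, a j) + b) : E r a ∈ degreeLT k (N + 1) := by
  rw [mem_degreeLT, degree_eq_natDegree E_monic.ne_zero, E_natDegree]
  exact_mod_cast (show ∑ j, a j < N + 1 by omega)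

theorem inf_vanish_root (hr : Function.Injective r) {b N : ℕ} (hN : N = (∑ j, a j) + b)
    (i : Fin m) (n : ℕ) :
    (degreeLT k (N + 1)).map (Phi r a) ⊓ (Ideal.span {(X - C (r i)) ^ n}).restrictScalars k
      = (Mult N (r i) n).map (Phi r a) := by
  apply le_antisymm
  · rintro _ ⟨⟨G, hG, rfl⟩, hdvd⟩
    rw [SetLike.mem_coe, mem_vanish] at hdvd
    have hEa : (taylor (r i) (E r a)).coeff (a i) ≠ 0 := by
      rw [E_eq i, coeff_taylor_pow_mul, eval_prod, Finset.prod_ne_zero_iff]
      intro j hj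
      simpa [sub_ne_zero] using
        fun h => pow_ne_zero (a j) (sub_ne_zero.mpr (hr.ne (Finset.ne_of_mem_erase hj).symm)) h
    set c : k := (taylor (r i) G).coeff (a i) / (taylor (r i) (E r a)).coeff (a i) with hc
    have hG0 : (taylor (r i) (G - c • E r a)).coeff (a i) = 0 := by
      rw [map_sub, map_smul, coeff_sub, coeff_smul, smul_eq_mul, hc, div_mul_cancel₀ _ hEa, sub_self]
    have hP : Phi r a (G - c • E r a) = Phi r a G := by rw [map_sub, Phi_smul_E, sub_zero]
    refine ⟨G - c • E r a, mem_Mult.mpr ⟨Submodule.sub_mem _ hG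
      (Submodule.smul_mem _ _ (E_mem_degreeLT hN)), ?_⟩, hP⟩
    by_cases h0 : G - c • E r a = 0
    · rw [h0]; exact dvd_zero _
    obtain ⟨T, hT, hndvd⟩ := exists_eq_pow_rootMultiplicity_mul_and_not_dvd _ h0 (r i)
    set g := rootMultiplicity (r i) (G - c • E r a)
    rw [dvd_iff_isRoot] at hndvd
    have hgne : g ≠ a i := by
      intro he
      apply hndvd
      rw [hT, ← he, coeff_taylor_pow_mul] at hG0
      exact hG0
    by_contra hcon
    have hlt : g < n := by
      by_contra hge
      exact hcon (dvd_trans (pow_dvd_pow _ (not_lt.mp hge)) ⟨T, hT⟩)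
    rw [← hP, hT, Phi_pow_mul_root] at hdvd
    have h1 : (X - C (r i)) ^ g * (X - C (r i)) ∣ (X - C (r i)) ^ g *
        (Rad r * derivative T +
          (C (g : k) * (∏ j ∈ Finset.univ.erase i, (X - C (r j))) - S r a) * T) :=
      dvd_trans (by rw [← pow_succ]; exact pow_dvd_pow _ hlt) hdvd
    rw [mul_dvd_mul_iff_left (pow_ne_zero _ (X_sub_C_ne_zero _)), dvd_iff_isRoot, IsRoot,
      eval_add, eval_mul, eval_mul, Rad_eq i, eval_mul, eval_sub, eval_sub, eval_mul, eval_C,
      eval_X, eval_C, sub_self, zero_mul, zero_mul, zero_add, eval_S_root, ← sub_mul] at h1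
    rcases mul_eq_zero.mp h1 with h2 | h2
    · rcases mul_eq_zero.mp h2 with h3 | h3
      · exact hgne (Nat.cast_injective (sub_eq_zero.mp h3))
      · exact eval_erase_ne_zero hr i h3
    · exact hndvd h2
  · rintro _ ⟨G, hG, rfl⟩
    obtain ⟨h1, T, rfl⟩ := mem_Mult.mp hG
    refine ⟨⟨_, h1, rfl⟩, ?_⟩
    rw [SetLike.mem_coe, mem_vanish, Phi_pow_mul_root]
    exact dvd_mul_right _ _

theorem inf_vanish_point {q : k} (hq : ∀ j, q ≠ r j) {b N : ℕ} (hN : N = (∑ j, a j) + b) (n : ℕ) :
    (degreeLT k (N + 1)).map (Phi r a) ⊓ (Ideal.span {(X - C q) ^ n}).restrictScalars k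
      = (Mult N q (n + 1)).map (Phi r a) := by
  apply le_antisymm
  · rintro _ ⟨⟨G, hG, rfl⟩, hdvd⟩
    rw [SetLike.mem_coe, mem_vanish] at hdvd
    set c : k := G.eval q / (E r a).eval q with hc
    have hG0 : (G - c • E r a).eval q = 0 := by
      rw [eval_sub, eval_smul, smul_eq_mul, hc, div_mul_cancel₀ _ (E_eval_ne_zero hq), sub_self]
    have hP : Phi r a (G - c • E r a) = Phi r a G := by rw [map_sub, Phi_smul_E, sub_zero]
    refine ⟨G - c • E r a, mem_Mult.mpr ⟨Submodule.sub_mem _ hG
      (Submodule.smul_mem _ _ (E_mem_degreeLT hN)), ?_⟩, hP⟩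
    by_cases h0 : G - c • E r a = 0
    · rw [h0]; exact dvd_zero _
    obtain ⟨T, hT, hndvd⟩ := exists_eq_pow_rootMultiplicity_mul_and_not_dvd _ h0 q
    obtain ⟨g, hg⟩ : ∃ g, rootMultiplicity q (G - c • E r a) = g + 1 := by
      refine ⟨rootMultiplicity q (G - c • E r a) - 1, ?_⟩
      have := (rootMultiplicity_pos h0).mpr hG0
      omega
    rw [hg] at hT
    rw [dvd_iff_isRoot] at hndvd
    by_contra hcon
    have hlt : g < n := by
      by_contra hge
      exact hcon (dvd_trans (pow_dvd_pow _ (by omega)) ⟨T, hT⟩)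
    rw [← hP, hT, Phi_pow_succ_mul] at hdvd
    have h1 : (X - C q) ^ g * (X - C q) ∣ (X - C q) ^ g *
        (C ((g + 1 : ℕ) : k) * Rad r * T + (X - C q) * (Rad r * derivative T - S r a * T)) :=
      dvd_trans (by rw [← pow_succ]; exact pow_dvd_pow _ hlt) hdvd
    rw [mul_dvd_mul_iff_left (pow_ne_zero _ (X_sub_C_ne_zero _)), dvd_add_left (dvd_mul_right _ _),
      dvd_iff_isRoot, IsRoot, eval_mul, eval_mul, eval_C] at h1
    rcases mul_eq_zero.mp h1 with h2 | h2
    · rcases mul_eq_zero.mp h2 with h3 | h3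
      · exact Nat.cast_ne_zero.mpr (Nat.succ_ne_zero g) h3
      · exact Rad_eval_ne_zero hq h3
    · exact hndvd h2
  · rintro _ ⟨G, hG, rfl⟩
    obtain ⟨h1, T, rfl⟩ := mem_Mult.mp hG
    refine ⟨⟨_, h1, rfl⟩, ?_⟩
    rw [SetLike.mem_coe, mem_vanish, Phi_pow_succ_mul]
    exact dvd_mul_right _ _

theorem inf_vanish_infty {b N : ℕ} (hN : N = (∑ j, a j) + b) (n : ℕ) :
    (degreeLT k (N + 1)).map (Phi r a) ⊓ degreeLT k (N + m - n)
      = (degreeLT k (N + 1 - n)).map (Phi r a) := by
  apply le_antisymm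
  · rintro _ ⟨⟨G, hG, rfl⟩, hdeg⟩
    rw [SetLike.mem_coe, mem_degreeLT] at hdeg
    set G₀ := G - G.coeff (∑ j, a j) • E r a with hG₀
    have hA : G₀.coeff (∑ j, a j) = 0 := by
      rw [hG₀, coeff_sub, coeff_smul, E_coeff_top, smul_eq_mul, mul_one, sub_self]
    have hP : Phi r a G₀ = Phi r a G := by rw [hG₀, map_sub, Phi_smul_E, sub_zero]
    refine ⟨G₀, ?_, hP⟩
    rw [SetLike.mem_coe, mem_degreeLT]
    by_cases h0 : G₀ = 0
    · rw [h0, degree_zero]; exact WithBot.bot_lt_coe _
    rw [← hP] at hdeg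
    have h1 := natDegree_le_of_Phi hA h0 hdeg
    rw [degree_eq_natDegree h0]
    have h2 : G₀.natDegree ≠ ∑ j, a j := by
      intro he
      apply leadingCoeff_ne_zero.mpr h0
      rw [leadingCoeff, he]; exact hA
    have h3 : m = 0 → ∑ j, a j = 0 := by
      intro hm; subst hm; simp
    have : G₀.natDegree < N + 1 - n := by
      by_cases hm : m = 0
      · have := h3 hm; omega
      · omega
    exact_mod_cast this
  · rintro _ ⟨G, hG, rfl⟩
    refine ⟨⟨G, degreeLT_mono (by omega) hG, rfl⟩, ?_⟩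
    rw [SetLike.mem_coe, mem_degreeLT]
    by_cases h0 : G = 0
    · rw [h0, map_zero, degree_zero]; exact WithBot.bot_lt_coe _
    rw [SetLike.mem_coe, mem_degreeLT, degree_eq_natDegree h0] at hG
    have hG' : G.natDegree < N + 1 - n := by exact_mod_cast hG
    have := degree_Phi_lt (r := r) (a := a) (G := G) (M := N - n) (by omega)
    refine lt_of_lt_of_le this ?_
    exact_mod_cast (show N - n + m ≤ N + m - n by omega)

end Groth.Agent.Misc12.Wr
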