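import Mathlib
import Groth.Agent.Misc12.Wr.Spaces

set_option autoImplicit false

namespace Groth.Agent.Misc12.Wr

open Polynomial

variable {k : Type*} [Field k] {m : ℕ} {r : Fin m → k} {a : Fin m → ℕ}

theorem degreeLT_succ_le {P : Submodule k k[X]} {M : ℕ} (h : degreeLT k M ≤ P) {G : k[X]}
    (hG : G ∈ P) (hdeg : G.natDegree ≤ M) (hc : G.coeff M ≠ 0) : degreeLT k (M + 1) ≤ P := by
  intro f hf
  have hred : f - (f.coeff M / G.coeff M) • G ∈ degreeLT k M := by
    rw [mem_degreeLT, degree_lt_iff_coeff_zero]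
    intro j hj
    rw [coeff_sub, coeff_smul, smul_eq_mul]
    rcases hj.lt_or_eq with hlt | heq
    · have h1 : f.coeff j = 0 :=
        coeff_eq_zero_of_degree_lt (lt_of_lt_of_le (mem_degreeLT.mp hf) (by exact_mod_cast hlt))
      have h2 : G.coeff j = 0 := coeff_eq_zero_of_natDegree_lt (by omega)
      rw [h1, h2]; ring
    · rw [← heq]; field_simp; ring
  have := P.add_mem (h hred) (P.smul_mem (f.coeff M / G.coeff M) hG)
  rwa [sub_add_cancel] at this

theorem pow_mem_Mult (N : ℕ) (q : k) {n j : ℕ} (h1 : n ≤ j) (h2 : j ≤ N) :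
    (X - C q) ^ j ∈ Mult N q n := by
  refine mem_Mult.mpr ⟨?_, pow_dvd_pow _ h1⟩
  rw [mem_degreeLT, degree_pow, degree_X_sub_C, nsmul_one]
  exact_mod_cast (show j < N + 1 by omega)

theorem degreeLT_le_of_pows {P : Submodule k k[X]} {M : ℕ} (h : degreeLT k M ≤ P) {q : k}
    (h1 : (X - C q) ^ M ∈ P) (h2 : (X - C q) ^ (M + 1) ∈ P) : degreeLT k (M + 2) ≤ P := by
  have key : ∀ j : ℕ, ((X - C q) ^ j).natDegree ≤ j ∧ ((X - C q) ^ j).coeff j ≠ 0 := fun j =>
    ⟨by simp, by
      have h := ((monic_X_sub_C q).pow j).coeff_natDegree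
      rw [natDegree_pow, natDegree_X_sub_C, mul_one] at h
      rw [h]; exact one_ne_zero⟩
  exact degreeLT_succ_le (degreeLT_succ_le h h1 (key M).1 (key M).2) h2 (key _).1 (key _).2

variable [CharZero k]

theorem E_not_mem_Mult_point {q : k} (hq : ∀ j, q ≠ r j) {N n : ℕ} (hn : 1 ≤ n) :
    E r a ∉ Mult N q n := fun h =>
  E_eval_ne_zero (a := a) hq (dvd_iff_isRoot.mp
    (dvd_trans (dvd_pow_self _ (by omega)) (mem_Mult.mp h).2))

theorem E_mem_Mult_root_iff (hr : Function.Injective r) {b N : ℕ} (hN : N = (∑ j, a j) + b)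
    (i : Fin m) (n : ℕ) : E r a ∈ Mult N (r i) n ↔ n ≤ a i := by
  refine ⟨fun h => ?_, fun h => mem_Mult.mpr ⟨E_mem_degreeLT hN, ?_⟩⟩
  · by_contra hcon
    have h1 := dvd_trans (pow_dvd_pow (X - C (r i)) (show a i + 1 ≤ n by omega)) (mem_Mult.mp h).2
    rw [E_eq i, pow_succ, mul_dvd_mul_iff_left (pow_ne_zero _ (X_sub_C_ne_zero _)),
      dvd_iff_isRoot, IsRoot, eval_prod, Finset.prod_eq_zero_iff] at h1
    obtain ⟨j, hj, hj'⟩ := h1
    rw [eval_pow, eval_sub, eval_X, eval_C] at hj'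
    exact hr.ne (Finset.ne_of_mem_erase hj).symm (sub_eq_zero.mp (eq_zero_of_pow_eq_zero hj'))
  · rw [E_eq i]; exact dvd_mul_of_dvd_left (pow_dvd_pow _ h) _

theorem E_mem_degreeLT_iff (n : ℕ) : E r a ∈ degreeLT k n ↔ ∑ j, a j < n := by
  rw [mem_degreeLT, degree_eq_natDegree E_monic.ne_zero, E_natDegree]
  exact Nat.cast_lt

instance finite_Mult (N : ℕ) (q : k) (n : ℕ) : FiniteDimensional k ↥(Mult N q n) :=
  Submodule.finiteDimensional_of_le Mult_le

section

variable {b N : ℕ}

theorem finrank_top (hN : N = (∑ j, a j) + b) :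
    Module.finrank k ↥((degreeLT k (N + 1)).map (Phi r a)) = N := by
  have := finrank_map_Phi_mem (E_mem_degreeLT (r := r) hN)
  rw [finrank_degreeLT'] at this
  omega

theorem finrank_Mult_point {q : k} (hq : ∀ j, q ≠ r j) {n : ℕ} (hn : 1 ≤ n) :
    Module.finrank k ↥((Mult N q n).map (Phi r a)) = N + 1 - n := by
  rw [finrank_map_Phi_not_mem (E_not_mem_Mult_point hq hn), finrank_Mult]

theorem finrank_Mult_root (hr : Function.Injective r) (hN : N = (∑ j, a j) + b) (i : Fin m) (n : ℕ) :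
    Module.finrank k ↥((Mult N (r i) n).map (Phi r a)) = if n ≤ a i then N - n else N + 1 - n := by
  split_ifs with h
  · have := finrank_map_Phi_mem ((E_mem_Mult_root_iff hr hN i n).mpr h)
    rw [finrank_Mult] at this
    omega
  · rw [finrank_map_Phi_not_mem (fun h' => h ((E_mem_Mult_root_iff hr hN i n).mp h')), finrank_Mult]

theorem finrank_infty (hN : N = (∑ j, a j) + b) (n : ℕ) :
    Module.finrank k ↥((degreeLT k (N + 1 - n)).map (Phi r a)) =
      if n ≤ b then N - n else N + 1 - n := by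
  split_ifs with h
  · have := finrank_map_Phi_mem ((E_mem_degreeLT_iff (r := r) (a := a) (N + 1 - n)).mpr (by omega))
    rw [finrank_degreeLT'] at this
    omega
  · rw [finrank_map_Phi_not_mem, finrank_degreeLT']
    rw [E_mem_degreeLT_iff]; omega

theorem Mult_top_eq_bot (q : k) {n : ℕ} (h : N < n) : Mult N q n = ⊥ := by
  rw [← Submodule.finrank_eq_zero (R := k), finrank_Mult]; omega

end

/-! ### Hyperplanes -/

omit [CharZero k] in
theorem finrank_inf_hyperplane {V V₁ W : Submodule k k[X]} [FiniteDimensional k V]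
    (h1 : V₁ ≤ V) (hd : Module.finrank k ↥V₁ + 1 = Module.finrank k ↥V) (hW : W ≤ V) :
    Module.finrank k ↥(V₁ ⊓ W) + (open Classical in if W ≤ V₁ then 0 else 1)
      = Module.finrank k ↥W := by
  split_ifs with h
  · rw [inf_eq_right.mpr h, add_zero]
  · have : FiniteDimensional k ↥V₁ := Submodule.finiteDimensional_of_le h1
    have : FiniteDimensional k ↥W := Submodule.finiteDimensional_of_le hW
    have hlt : V₁ < V₁ ⊔ W := lt_of_le_of_ne le_sup_left fun he => h (he ▸ le_sup_right)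
    have h2 := Submodule.finrank_lt_finrank_of_lt hlt
    have h3 : Module.finrank k ↥(V₁ ⊔ W) ≤ Module.finrank k ↥V :=
      Submodule.finrank_mono (sup_le h1 hW)
    have h4 := Submodule.finrank_sup_add_finrank_inf_eq V₁ W
    omega

omit [CharZero k] in
theorem not_le_of_hyperplane {V V₁ : Submodule k k[X]}
    (hd : Module.finrank k ↥V₁ + 1 = Module.finrank k ↥V) (h1 : V₁ ≤ V) : ¬ V ≤ V₁ := by
  intro h
  rw [le_antisymm h1 h] at hd
  omega

theorem sum_vanish {N d a₀ : ℕ} (h1 : N ≤ d + 1) (h2 : a₀ < N → N ≤ d) :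
    ∑ n ∈ Finset.range d, (if n + 1 ≤ a₀ then N - (n + 1) else N + 1 - (n + 1))
      = N.choose 2 + (N - a₀) := by
  have hs : ∀ n, (if n + 1 ≤ a₀ then N - (n + 1) else N + 1 - (n + 1))
      = (N - (n + 1)) + (if n ∈ Finset.Ico a₀ N then 1 else 0) := by
    intro n
    simp only [Finset.mem_Ico]
    split_ifs <;> omega
  rw [Finset.sum_congr rfl fun n _ => hs n, Finset.sum_add_distrib]
  congr 1
  · have e0 : ∀ n, N ≤ n + 1 → N - (n + 1) = 0 := fun n hn => by omega
    have e1 : ∑ n ∈ Finset.range d, (N - (n + 1)) = ∑ n ∈ Finset.range (d + 1), (N - (n + 1)) := by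
      rw [Finset.sum_range_succ, e0 d h1, add_zero]
    have e2 : ∑ n ∈ Finset.range N, (N - (n + 1)) = ∑ n ∈ Finset.range (d + 1), (N - (n + 1)) :=
      Finset.sum_subset (Finset.range_mono h1) fun n _ hn => e0 n (by
        rw [Finset.mem_range] at hn; omega)
    rw [e1, ← e2, Nat.choose_two_right, ← Finset.sum_range_id, ← Finset.sum_range_reflect (fun n => n)]
    exact Finset.sum_congr rfl fun n _ => by omega
  · rw [Finset.sum_ite_mem, Finset.sum_const, smul_eq_mul, mul_one]
    rcases lt_or_ge a₀ N with h | h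
    · have : Finset.range d ∩ Finset.Ico a₀ N = Finset.Ico a₀ N := by
        refine Finset.inter_eq_right.mpr fun n hn => ?_
        rw [Finset.mem_Ico] at hn
        rw [Finset.mem_range]
        have := h2 h; omega
      rw [this, Nat.card_Ico]
    · rw [Finset.Ico_eq_empty (by omega), Finset.inter_empty, Finset.card_empty]; omega

theorem sum_bad {N d : ℕ} (bad : ℕ → Prop) [DecidablePred bad]
    (h1 : ∀ n, 1 ≤ n → n ≤ N - 1 → bad n) (h2 : ∀ n, N < n → ¬ bad n) (h3 : N ≤ d + 1)
    (h4 : bad N → N ≤ d) (hN : 1 ≤ N) :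
    ∑ n ∈ Finset.range d, (if bad (n + 1) then 1 else 0) = (N - 1) + (if bad N then 1 else 0) := by
  obtain ⟨M, rfl⟩ : ∃ M, N = M + 1 := ⟨N - 1, by omega⟩
  have e : ∀ n, (if bad (n + 1) then 1 else 0 : ℕ)
      = (if n ∈ Finset.range M then 1 else 0) + (if n = M then (if bad (M + 1) then 1 else 0) else 0) := by
    intro n
    simp only [Finset.mem_range]
    rcases lt_trichotomy n M with h | h | h
    · rw [if_pos (h1 _ (by omega) (by omega)), if_pos h, if_neg (by omega)]
    · subst h; simp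
    · rw [if_neg (h2 _ (by omega)), if_neg (by omega), if_neg (by omega)]
  rw [Finset.sum_congr rfl fun n _ => e n, Finset.sum_add_distrib, Finset.sum_ite_mem,
    Finset.inter_eq_right.mpr (Finset.range_mono (by omega)), Finset.sum_const, Finset.card_range,
    smul_eq_mul, mul_one, Finset.sum_ite_eq']
  congr 1
  by_cases hb : bad (M + 1)
  · rw [if_pos (Finset.mem_range.mpr (by have := h4 hb; omega))]
  · rw [if_neg hb, ite_self]

end Groth.Agent.Misc12.Wr
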