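import Mathlib
import Groth.Agent.Misc12.Wr.Hyper

set_option autoImplicit false

namespace Groth.Agent.Misc12.Wr

open Polynomial

variable {k : Type*} [Field k] [CharZero k] {m : ℕ} {r : Fin m → k} {a : Fin m → ℕ} {b N : ℕ}

theorem d_succ {d : ℕ} (hN : N = (∑ j, a j) + b) (hd : d + 1 = (∑ j, (a j + 1)) + b) :
    d + 1 = N + m := by
  rw [hd, hN, Finset.sum_add_distrib, Finset.sum_const, Finset.card_univ, Fintype.card_fin,
    smul_eq_mul, mul_one]
  omega

theorem one_le_card (i : Fin m) : 1 ≤ m := by have := i.isLt; omega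

theorem a_lt (hb : 1 ≤ b) (hN : N = (∑ j, a j) + b) (i : Fin m) : a i < N := by
  have := Finset.single_le_sum (f := a) (fun j _ => Nat.zero_le _) (Finset.mem_univ i)
  omega

/-- A hyperplane containing `U` contains the image of polynomials of degree `≤ N - 2`. -/
theorem low_le (hr : Function.Injective r) (hb : 1 ≤ b) (hN : N = (∑ j, a j) + b)
    {V₁ : Submodule k k[X]}
    (hU : (degreeLT k (b - 2)).map (LinearMap.mulLeft k (∏ j, (X - C (r j)) ^ (a j + 1))) ⊔
      (⨆ i, (degreeLT k (a i)).map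
        (LinearMap.mulLeft k (∏ j ∈ Finset.univ.erase i, (X - C (r j)) ^ (a j + 1)))) ≤ V₁) :
    degreeLT k (N - 1) ≤ V₁.comap (Phi r a) := by
  have h := V_eq hr (b - 2) ((∑ j, a j) + (b - 2)) rfl _ (a := a) rfl
  rw [h, Submodule.map_le_iff_le_comap] at hU
  exact le_trans (degreeLT_mono (by omega)) hU

/-- `V₁` does not contain two consecutive top powers. -/
theorem not_pows (hN1 : 2 ≤ N) {V V₁ : Submodule k k[X]}
    (hV : V = (degreeLT k (N + 1)).map (Phi r a))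
    (hV₁ : V₁ ≤ V) (hd : Module.finrank k ↥V₁ + 1 = Module.finrank k ↥V)
    (hlow : degreeLT k (N - 1) ≤ V₁.comap (Phi r a)) (q : k)
    (h1 : Phi r a ((X - C q) ^ (N - 1)) ∈ V₁) (h2 : Phi r a ((X - C q) ^ N) ∈ V₁) : False := by
  obtain ⟨M, rfl⟩ : ∃ M, N = M + 1 := ⟨N - 1, by omega⟩
  rw [Nat.add_sub_cancel] at h1 hlow
  have h3 := degreeLT_le_of_pows hlow (q := q) h1 h2
  refine not_le_of_hyperplane hd hV₁ ?_
  rw [hV, Submodule.map_le_iff_le_comap]
  exact h3

/-- A functional criterion for membership in `V(-p)`. -/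
theorem pow_mem_Vp {p q : k} (hpq : p ≠ q) {j : ℕ}
    (h : (X - C p) ∣ Phi r a ((X - C q) ^ j)) :
    (Rad r).eval p * (j : k) = (p - q) * (S r a).eval p := by
  rw [dvd_iff_isRoot, IsRoot, Phi_apply, derivative_X_sub_C_pow] at h
  simp only [eval_sub, eval_mul, eval_pow, eval_X, eval_C] at h
  rcases Nat.eq_zero_or_pos j with h0 | h0
  · subst h0
    simp at h
    simp [h]
  · have hp : (p - q) ^ j = (p - q) ^ (j - 1) * (p - q) := by
      rw [← pow_succ]; congr 1; omega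
    rw [hp] at h
    have : (p - q) ^ (j - 1) * ((Rad r).eval p * (j : k) - (p - q) * (S r a).eval p) = 0 := by
      linear_combination h
    exact sub_eq_zero.mp ((mul_eq_zero.mp this).resolve_left (pow_ne_zero _ (sub_ne_zero.mpr hpq)))

theorem not_pows_Vp (hN1 : 1 ≤ N) {p q : k} (hpq : p ≠ q) (hp : ∀ j, p ≠ r j)
    (h1 : (X - C p) ∣ Phi r a ((X - C q) ^ (N - 1))) (h2 : (X - C p) ∣ Phi r a ((X - C q) ^ N)) :
    False := by
  obtain ⟨M, rfl⟩ : ∃ M, N = M + 1 := ⟨N - 1, by omega⟩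
  rw [Nat.add_sub_cancel] at h1
  have e1 := pow_mem_Vp hpq h1
  have e2 := pow_mem_Vp hpq h2
  push_cast at e2
  exact Rad_eval_ne_zero hp (by linear_combination e2 - e1)

/-- The line `Mult N q N` is spanned by `(X - q) ^ N`. -/
theorem pow_mem_of_inf_ne_bot {q : k} (hq : ∀ j, q ≠ r j) (hN1 : 1 ≤ N)
    (hN : N = (∑ j, a j) + b) {V V₁ : Submodule k k[X]}
    (hV : V = (degreeLT k (N + 1)).map (Phi r a)) (hV₁ : V₁ ≤ V)
    (h : V₁ ⊓ (Ideal.span {(X - C q) ^ (N - 1)}).restrictScalars k ≠ ⊥) :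
    Phi r a ((X - C q) ^ N) ∈ V₁ := by
  obtain ⟨x, hx, hx0⟩ := Submodule.exists_mem_ne_zero_of_ne_bot h
  obtain ⟨hx1, hx2⟩ := Submodule.mem_inf.mp hx
  have hx3 : x ∈ V ⊓ (Ideal.span {(X - C q) ^ (N - 1)}).restrictScalars k := ⟨hV₁ hx1, hx2⟩
  rw [hV, inf_vanish_point hq hN, Nat.sub_add_cancel hN1] at hx3
  obtain ⟨G, hG, rfl⟩ := hx3
  obtain ⟨T, hT, rfl⟩ := hG
  rw [SetLike.mem_coe, Nat.add_sub_cancel_left, mem_degreeLT] at hT
  obtain ⟨c, rfl⟩ : ∃ c, T = C c :=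
    ⟨_, eq_C_of_degree_le_zero (Nat.WithBot.lt_one_iff_le_zero.mp (by exact_mod_cast hT))⟩
  have hc : c ≠ 0 := by rintro rfl; simp at hx0
  have e : LinearMap.mulLeft k ((X - C q) ^ N) (C c) = c • (X - C q) ^ N := by
    rw [LinearMap.mulLeft_apply, smul_eq_C_mul, mul_comm]
  rw [e, map_smul] at hx1
  simpa [smul_smul, hc] using V₁.smul_mem c⁻¹ hx1

/-- The part of `V₁` vanishing to order `N - 2` at an unmarked point is at most a line. -/
theorem finrank_inf_le_one {q : k} (hq : ∀ j, q ≠ r j) (hN : N = (∑ j, a j) + b) (hN1 : 1 ≤ N)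
    {V V₁ : Submodule k k[X]} (hV : V = (degreeLT k (N + 1)).map (Phi r a)) (hV₁ : V₁ ≤ V)
    (hfin : Module.finrank k ↥V₁ + 1 = N)
    (hno : 2 ≤ N → Phi r a ((X - C q) ^ (N - 1)) ∈ V₁ → Phi r a ((X - C q) ^ N) ∈ V₁ → False) :
    Module.finrank k ↥(V₁ ⊓ (Ideal.span {(X - C q) ^ (N - 2)}).restrictScalars k) ≤ 1 := by
  subst hV
  have : FiniteDimensional k ↥V₁ := Submodule.finiteDimensional_of_le hV₁
  rcases lt_or_ge N 2 with h2 | h2
  · have := Submodule.finrank_mono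
      (inf_le_left : V₁ ⊓ (Ideal.span {(X - C q) ^ (N - 2)}).restrictScalars k ≤ V₁)
    omega
  · have e : V₁ ⊓ (Ideal.span {(X - C q) ^ (N - 2)}).restrictScalars k
        = V₁ ⊓ (Mult N q (N - 2 + 1)).map (Phi r a) := by
      rw [← inf_vanish_point hq hN, ← inf_assoc, inf_eq_left.mpr hV₁]
    have h3 := finrank_inf_hyperplane hV₁ (by rw [finrank_top hN]; exact hfin)
      (Submodule.map_mono (Mult_le (N := N) (q := q) (n := N - 2 + 1)))
    rw [if_neg, finrank_Mult_point hq (by omega)] at h3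
    · rw [e]; omega
    · intro hle
      exact hno h2
        (hle (Submodule.mem_map_of_mem (pow_mem_Mult N q (by omega) (by omega))))
        (hle (Submodule.mem_map_of_mem (pow_mem_Mult N q (by omega) le_rfl)))

theorem inf_top_eq_bot {q : k} (hq : ∀ j, q ≠ r j) (hN : N = (∑ j, a j) + b)
    {V : Submodule k k[X]} (hV : V = (degreeLT k (N + 1)).map (Phi r a)) :
    V ⊓ (Ideal.span {(X - C q) ^ N}).restrictScalars k = ⊥ := by
  rw [hV, inf_vanish_point hq hN, Mult_top_eq_bot q (by omega), Submodule.map_bot]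

/-- Weight sum at a marked finite point. -/
theorem sum_root (hr : Function.Injective r) (hb : 1 ≤ b) (hN : N = (∑ j, a j) + b) {d : ℕ}
    (hd : d + 1 = N + m) (i : Fin m) {V₁ : Submodule k k[X]}
    (hV₁ : V₁ ≤ (degreeLT k (N + 1)).map (Phi r a)) (hfin : Module.finrank k ↥V₁ + 1 = N)
    (hno : Phi r a ((X - C (r i)) ^ (N - 1)) ∈ V₁ → Phi r a ((X - C (r i)) ^ N) ∈ V₁ → False) :
    ∃ ε : ℕ, ε ≤ 1 ∧
      (∑ n ∈ Finset.range d, Module.finrank k
        ↥(V₁ ⊓ (Ideal.span {(X - C (r i)) ^ (n + 1)}).restrictScalars k)) + 1 =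
        (N - 1).choose 2 + (N - a i) + ε := by
  classical
  obtain ⟨W, hW⟩ : ∃ W : ℕ → Submodule k k[X], ∀ n, W n = (Mult N (r i) n).map (Phi r a) :=
    ⟨_, fun _ => rfl⟩
  have ha := a_lt hb hN i
  have hm := one_le_card i
  have key : ∀ n, Module.finrank k ↥(V₁ ⊓ (Ideal.span {(X - C (r i)) ^ (n + 1)}).restrictScalars k)
      + (if ¬ W (n + 1) ≤ V₁ then 1 else 0)
      = if n + 1 ≤ a i then N - (n + 1) else N + 1 - (n + 1) := by
    intro n
    have e : V₁ ⊓ (Ideal.span {(X - C (r i)) ^ (n + 1)}).restrictScalars k = V₁ ⊓ W (n + 1) := by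
      rw [hW, ← inf_vanish_root hr hN, ← inf_assoc, inf_eq_left.mpr hV₁]
    have h3 := finrank_inf_hyperplane hV₁ (by rw [finrank_top hN]; exact hfin)
      (Submodule.map_mono (Mult_le (N := N) (q := r i) (n := n + 1)))
    rw [finrank_Mult_root hr hN i] at h3
    rw [e, ← h3, hW]
    by_cases hle : (Mult N (r i) (n + 1)).map (Phi r a) ≤ V₁ <;> simp [hle]
  have hbad1 : ∀ n, 1 ≤ n → n ≤ N - 1 → ¬ W n ≤ V₁ := fun n _ hn hle => hno
    (hle (by rw [hW]; exact Submodule.mem_map_of_mem (pow_mem_Mult N (r i) hn (by omega))))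
    (hle (by rw [hW]; exact Submodule.mem_map_of_mem (pow_mem_Mult N (r i) (by omega) le_rfl)))
  have hbad2 : ∀ n, N < n → ¬ ¬ W n ≤ V₁ := fun n hn h => h (by
    rw [hW, Mult_top_eq_bot _ hn, Submodule.map_bot]; exact bot_le)
  have hsum := Finset.sum_congr rfl fun n (_ : n ∈ Finset.range d) => key n
  rw [Finset.sum_add_distrib, sum_bad (N := N) (fun n => ¬ W n ≤ V₁) hbad1 hbad2 (by omega)
    (fun _ => by omega) (by omega), sum_vanish (by omega) (fun _ => by omega)] at hsum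
  have hC : N.choose 2 = (N - 1) + (N - 1).choose 2 := by
    obtain ⟨M, rfl⟩ : ∃ M, N = M + 1 := ⟨N - 1, by omega⟩
    rw [Nat.choose_succ_succ', Nat.choose_one_right, Nat.add_sub_cancel]
  refine ⟨1 - (if ¬ W N ≤ V₁ then 1 else 0), by omega, ?_⟩
  have : (if ¬ W N ≤ V₁ then 1 else 0) ≤ 1 := by split_ifs <;> omega
  omega

theorem choose_two_succ (hN : 1 ≤ N) : N.choose 2 = (N - 1) + (N - 1).choose 2 := by
  obtain ⟨M, rfl⟩ : ∃ M, N = M + 1 := ⟨N - 1, by omega⟩
  rw [Nat.choose_succ_succ', Nat.choose_one_right, Nat.add_sub_cancel]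

/-- Weight sum at infinity, before evaluating the correction. -/
theorem sum_infty (hb : 1 ≤ b) (hN : N = (∑ j, a j) + b) {d : ℕ} (hd : d + 1 = N + m)
    {V₁ : Submodule k k[X]}
    (hV₁ : V₁ ≤ (degreeLT k (N + 1)).map (Phi r a)) (hfin : Module.finrank k ↥V₁ + 1 = N)
    [DecidablePred fun n => ¬ (degreeLT k (N + 1 - n)).map (Phi r a) ≤ V₁] :
    (∑ n ∈ Finset.range d, Module.finrank k ↥(V₁ ⊓ degreeLT k (d - n)))
      + (∑ n ∈ Finset.range d,
          if ¬ (degreeLT k (N + 1 - (n + 1))).map (Phi r a) ≤ V₁ then 1 else 0)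
      = N.choose 2 + (N - b) := by
  have hm : b < N → N ≤ d := by
    intro h
    rcases Nat.eq_zero_or_pos m with hm | hm
    · subst hm; simp at hN; omega
    · omega
  rw [← Finset.sum_add_distrib, ← sum_vanish (a₀ := b) (by omega : N ≤ d + 1) hm]
  refine Finset.sum_congr rfl fun n _ => ?_
  have e : V₁ ⊓ degreeLT k (d - n) = V₁ ⊓ (degreeLT k (N + 1 - (n + 1))).map (Phi r a) := by
    rw [← inf_vanish_infty hN, ← inf_assoc, inf_eq_left.mpr hV₁,
      show N + m - (n + 1) = d - n by omega]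
  have h3 := finrank_inf_hyperplane hV₁ (by rw [finrank_top hN]; exact hfin)
    (Submodule.map_mono (degreeLT_mono (R := k) (show N + 1 - (n + 1) ≤ N + 1 by omega)))
  rw [finrank_infty hN] at h3
  rw [e, ← h3]
  by_cases hle : (degreeLT k (N + 1 - (n + 1))).map (Phi r a) ≤ V₁ <;> simp [hle]

end Groth.Agent.Misc12.Wr
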